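import Groth.Prelude.Def_W4stkflatp2Frob
import Mathlib.AlgebraicGeometry.AffineScheme
import Mathlib.AlgebraicGeometry.AffineSpace
import Mathlib.AlgebraicGeometry.Morphisms.QuasiSeparated
import Mathlib.AlgebraicGeometry.Sites.BigZariski

/-!
# Sections up to `p`-th powers on quasi-compact covers
-/

set_option autoImplicit false
set_option backward.isDefEq.respectTransparency false
universe u

open CategoryTheory CategoryTheory.Limits AlgebraicGeometry

noncomputable section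

namespace GrothLib.HFrobColim4

open HTop

variable {p : ℕ} {X : Scheme.{u}}

/-- Equality in the colimit. -/
theorem mk_eq_mk_iff {n m : ℕ} {a b : Γ(X, ⊤)} :
    FrobColimSections.mk p n a = FrobColimSections.mk p m b ↔ ∃ k, a ^ p ^ (m + k) = b ^ p ^ (n + k) := by
  constructor
  · intro h
    let r : ℕ × Γ(X, ⊤) → ℕ × Γ(X, ⊤) → Prop := fun x y => ∃ k, x.2 ^ p ^ (y.1 + k) = y.2 ^ p ^ (x.1 + k)
    have hr : Equivalence r := by
      refine ⟨fun x => ⟨0, rfl⟩, fun ⟨k, hk⟩ => ⟨k, hk.symm⟩, @fun x y z ⟨k, hk⟩ ⟨j, hj⟩ => ⟨k + j + y.1, ?_⟩⟩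
      have h1 := congrArg (fun t => t ^ p ^ (z.1 + j)) hk
      have h2 := congrArg (fun t => t ^ p ^ (x.1 + k)) hj
      simp only [← pow_mul, ← pow_add] at h1 h2
      rw [show x.1 + k + (z.1 + j) = z.1 + j + (x.1 + k) by omega] at h1
      have := h1.trans h2
      rw [show z.1 + (k + j + y.1) = y.1 + k + (z.1 + j) by omega,
        show x.1 + (k + j + y.1) = y.1 + j + (x.1 + k) by omega]
      exact this
    have h' : ∀ x y, FrobColimRel p X x y → r x y := fun x y (hxy : y = _) => by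
      subst hxy
      refine ⟨0, ?_⟩
      show x.2 ^ p ^ (x.1 + 1 + 0) = (x.2 ^ p) ^ p ^ (x.1 + 0)
      rw [← pow_mul, ← pow_succ', Nat.add_zero, Nat.add_zero]
    have := Relation.EqvGen.mono (fun {x y} => h' x y) (n, a) (m, b) (Quot.eqvGen_exact h)
    exact (hr.eqvGen_iff).1 this
  · rintro ⟨k, hk⟩
    have hraise : ∀ (j : ℕ) (n : ℕ) (a : Γ(X, ⊤)),
        FrobColimSections.mk p n a = FrobColimSections.mk p (n + j) (a ^ p ^ j) := by
      intro j
      induction j with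
      | zero => simp
      | succ j ih => intro n a; rw [ih n a, FrobColimSections.sound, ← pow_mul, ← pow_succ, Nat.add_assoc]
    rw [hraise (m + k) n a, hraise (n + k) m b, hk, Nat.add_left_comm]

theorem mk_raise (n k : ℕ) (a : Γ(X, ⊤)) :
    FrobColimSections.mk p n a = FrobColimSections.mk p (n + k) (a ^ p ^ k) :=
  mk_eq_mk_iff.2 ⟨0, by rw [← pow_mul, ← pow_add, Nat.add_zero, Nat.add_zero, Nat.add_comm n k]⟩

theorem exists_pow_eq {ι : Type*} [Finite ι] {Z : ι → Scheme.{u}} {n : ℕ} {a b : ∀ i, Γ(Z i, ⊤)}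
    (h : ∀ i, FrobColimSections.mk p n (a i) = FrobColimSections.mk p n (b i)) :
    ∃ k, ∀ i, a i ^ p ^ k = b i ^ p ^ k := by
  haveI := Fintype.ofFinite ι
  choose k hk using fun i => mk_eq_mk_iff.1 (h i)
  refine ⟨n + Finset.univ.sup k, fun i => ?_⟩
  obtain ⟨d, hd⟩ := Nat.exists_eq_add_of_le (Finset.le_sup (f := k) (Finset.mem_univ i))
  rw [hd, ← Nat.add_assoc, pow_add, pow_mul, hk, ← pow_mul, ← pow_add]

theorem exists_common {ι : Type*} [Finite ι] {Z : ι → Scheme.{u}} (x : ∀ i, FrobColimSections p (Z i)) :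
    ∃ (n : ℕ) (a : ∀ i, Γ(Z i, ⊤)), ∀ i, FrobColimSections.mk p n (a i) = x i := by
  haveI := Fintype.ofFinite ι
  choose y hy using fun i => Quot.exists_rep (x i)
  refine ⟨Finset.univ.sup fun i => (y i).1, fun i => (y i).2 ^ p ^ ((Finset.univ.sup fun i => (y i).1) - (y i).1),
    fun i => ?_⟩
  have hle : (y i).1 ≤ Finset.univ.sup fun i => (y i).1 := Finset.le_sup (f := fun i => (y i).1) (Finset.mem_univ i)
  rw [← hy i]
  refine Eq.trans ?_ (mk_raise _ ((Finset.univ.sup fun i => (y i).1) - (y i).1) (y i).2).symm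
  rw [Nat.add_sub_cancel' hle]

/-- Global sections glue along open covers. -/
theorem existsUnique_glue (𝒰 : X.OpenCover) (a : ∀ i, Γ(𝒰.X i, ⊤))
    (ha : ∀ i j, (pullback.fst (𝒰.f i) (𝒰.f j)).appTop.hom (a i) =
      (pullback.snd (𝒰.f i) (𝒰.f j)).appTop.hom (a j)) :
    ∃! s : Γ(X, ⊤), ∀ i, (𝒰.f i).appTop.hom s = a i := by
  let e : ∀ W : Scheme.{u}, (W ⟶ Spec (CommRingCat.of (MvPolynomial PUnit.{u + 1} (ULift.{u} ℤ)))) ≃
      (PUnit.{u + 1} → Γ(W, ⊤)) := fun W => AffineSpace.toSpecMvPolyIntEquiv _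
  have hnat : ∀ {W W' : Scheme.{u}} (g : W ⟶ W') (c : W' ⟶ _), e W (g ≫ c) PUnit.unit =
      g.appTop.hom (e W' c PUnit.unit) := fun g c => rfl
  let f := fun i => (e (𝒰.X i)).symm fun _ => a i
  have hf : ∀ i j, pullback.fst (𝒰.f i) (𝒰.f j) ≫ f i = pullback.snd _ _ ≫ f j := fun i j => by
    apply (e _).injective
    funext u
    show e _ _ PUnit.unit = e _ _ PUnit.unit
    rw [hnat, hnat]
    simpa [f] using ha i j
  refine ⟨e X (𝒰.glueMorphisms f hf) PUnit.unit, fun i => ?_, fun b hb => ?_⟩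
  · rw [← hnat, Scheme.Cover.ι_glueMorphisms]
    simp [f]
  · have : (e X).symm (fun _ => b) = 𝒰.glueMorphisms f hf := Scheme.Cover.hom_ext 𝒰 _ _ fun i => by
      rw [Scheme.Cover.ι_glueMorphisms]
      apply (e _).injective
      funext u
      show e _ (𝒰.f i ≫ _) PUnit.unit = _
      rw [hnat]
      simp [f, hb i]
    rw [← this]
    simp

theorem eq_of_cover (𝒰 : X.OpenCover) {a b : Γ(X, ⊤)}
    (h : ∀ i, (𝒰.f i).appTop.hom a = (𝒰.f i).appTop.hom b) : a = b :=
  (existsUnique_glue 𝒰 (fun i => (𝒰.f i).appTop.hom b) fun i j => by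
    rw [← CommRingCat.comp_apply, ← Scheme.Hom.comp_appTop, ← CommRingCat.comp_apply, ← Scheme.Hom.comp_appTop,
      pullback.condition]).unique h fun _ => rfl

/-- Classes agree if they do so on a finite open cover. -/
theorem colim_eq_of_cover (𝒰 : X.OpenCover) [Finite 𝒰.I₀] {x y : FrobColimSections p X}
    (h : ∀ i, FrobColimSections.map p (𝒰.f i) x = FrobColimSections.map p (𝒰.f i) y) : x = y := by
  obtain ⟨n, a, ha⟩ := exists_common (Z := fun _ : Bool => X) (fun b => bif b then x else y)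
  obtain ⟨k, hk⟩ := exists_pow_eq (Z := 𝒰.X) (p := p) (n := n) (a := fun i => (𝒰.f i).appTop.hom (a true))
    (b := fun i => (𝒰.f i).appTop.hom (a false)) fun i => by
      rw [← FrobColimSections.map_mk, ← FrobColimSections.map_mk, ha, ha]
      exact h i
  rw [show x = _ from (ha true).symm, show y = _ from (ha false).symm, mk_raise n k (a true),
    mk_raise n k (a false), eq_of_cover 𝒰 (a := a true ^ p ^ k) (b := a false ^ p ^ k) fun i => by
      rw [map_pow, map_pow]; exact hk i]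

/-- Classes glue along finite open covers. -/
theorem colim_exists_glue (𝒰 : X.OpenCover) [Finite 𝒰.I₀] (x : ∀ i, FrobColimSections p (𝒰.X i))
    (hx : ∀ i j, FrobColimSections.map p (pullback.fst (𝒰.f i) (𝒰.f j)) (x i) =
      FrobColimSections.map p (pullback.snd (𝒰.f i) (𝒰.f j)) (x j)) :
    ∃ s, ∀ i, FrobColimSections.map p (𝒰.f i) s = x i := by
  obtain ⟨n, a, ha⟩ := exists_common x
  obtain ⟨k, hk⟩ := exists_pow_eq (Z := fun ij : 𝒰.I₀ × 𝒰.I₀ => pullback (𝒰.f ij.1) (𝒰.f ij.2)) (p := p) (n := n)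
    (a := fun ij => (pullback.fst (𝒰.f ij.1) (𝒰.f ij.2)).appTop.hom (a ij.1))
    (b := fun ij => (pullback.snd (𝒰.f ij.1) (𝒰.f ij.2)).appTop.hom (a ij.2)) fun ij => by
      rw [← FrobColimSections.map_mk, ← FrobColimSections.map_mk, ha, ha]
      exact hx ij.1 ij.2
  obtain ⟨s, hs, -⟩ := existsUnique_glue 𝒰 (fun i => a i ^ p ^ k) fun i j => by
    rw [map_pow, map_pow]; exact hk (i, j)
  exact ⟨FrobColimSections.mk p (n + k) s, fun i => by rw [FrobColimSections.map_mk, hs, ← mk_raise, ha]⟩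

/-- A Zariski covering sieve of a quasi-compact scheme contains a finite affine cover. -/
theorem exists_finite_affine_cover [CompactSpace X] {T : Sieve X} (hT : T ∈ Scheme.zariskiTopology X) :
    ∃ 𝒰 : Scheme.OpenCover.{u} X, Finite 𝒰.I₀ ∧ ∀ i, IsAffine (𝒰.X i) ∧ T (𝒰.f i) := by
  obtain ⟨𝒱, h𝒱⟩ := Scheme.exists_cover_of_mem_grothendieckTopology hT
  let 𝒱' : X.OpenCover := Scheme.OpenCover.affineRefinement 𝒱 |>.openCover
  refine ⟨𝒱'.finiteSubcover, inferInstance, fun i => ⟨?_, ?_⟩⟩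
  · simp only [Scheme.OpenCover.finiteSubcover_X]
    exact inferInstanceAs (IsAffine (Spec _))
  · simp only [Scheme.OpenCover.finiteSubcover_f]
    exact T.downward_closed (h𝒱 _ _ ⟨_⟩) _

end GrothLib.HFrobColim4
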