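import Groth.Agent.Lib.HFrobColim4.Sheafify
import Groth.Agent.Lib.HFrob4.FrobLim

/-!
# The sheafified colimit along Frobenius is an h sheaf
-/

set_option autoImplicit false
set_option backward.isDefEq.respectTransparency false
universe u

open CategoryTheory CategoryTheory.Limits AlgebraicGeometry Opposite

noncomputable section

namespace GrothLib.HFrobColim4

open _root_.HTop GrothLib.HFrob4 GrothLib.HSquare4

variable {p : ℕ} {S : Scheme.{u}}

/-- A section as a constant sequence. -/
def constSeq (X : Over S) (a : Γ(X.left, ⊤)) : (frobLimPresheaf 1 S).obj (op X) :=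
  (⟨fun _ => a, fun _ => pow_one a⟩ : FrobLimSections 1 X.left)

/-- Global sections descend along a flat proper covering. -/
theorem exists_descend {X Y : Over S} (f : X ⟶ Y) [IsAffine Y.left] [Surjective f.left] [Flat f.left]
    [IsProper f.left] [LocallyOfFinitePresentation f.left] (a : Γ(X.left, ⊤))
    (h : (pullback.fst f.left f.left).appTop.hom a = (pullback.snd f.left f.left).appTop.hom a) :
    ∃! c : Γ(Y.left, ⊤), f.left.appTop.hom c = a := by
  obtain ⟨y, hy, hu⟩ := Presieve.isSheafFor_singleton.1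
    (flatCond_frobLim 1 X Y f ‹_› ‹_› ‹_› ‹_› ‹_›) (constSeq X a) fun {Z} p₁ p₂ he => by
      apply FrobLimSections.ext
      intro n
      show p₁.left.appTop.hom a = p₂.left.appTop.hom a
      have e := congrArg (fun g : Z ⟶ Y => g.left) he
      simp only [Over.comp_left] at e
      rw [← pullback.lift_fst p₁.left p₂.left e, Scheme.Hom.comp_appTop, CommRingCat.comp_apply, h,
        ← CommRingCat.comp_apply, ← Scheme.Hom.comp_appTop, pullback.lift_snd]
  refine ⟨y.1 0, congrArg (fun s : FrobLimSections 1 X.left => s.1 0) hy, fun c hc => ?_⟩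
  have := hu (constSeq Y c) (FrobLimSections.ext fun n => hc)
  exact congrArg (fun s : FrobLimSections 1 Y.left => s.1 0) this

theorem flatCond_Q : FlatCond (Q p S) := by
  intro X Y f _ _ _ _ _
  haveI : CompactSpace X.left := QuasiCompact.compactSpace_of_compactSpace f.left
  haveI : QuasiSeparatedSpace X.left := quasiSeparatedSpace_of_quasiSeparated f.left
  rw [Presieve.isSheafFor_singleton]
  intro x hx
  obtain ⟨x₀, rfl⟩ := (η_bijective X).2 x
  obtain ⟨⟨n, a⟩, rfl⟩ := Quot.exists_rep x₀
  let Z : Over S := Over.mk (pullback.fst f.left f.left ≫ X.hom)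
  let l₁ : Z ⟶ X := Over.homMk (pullback.fst f.left f.left) (by simp [Z])
  let l₂ : Z ⟶ X := Over.homMk (pullback.snd f.left f.left) (by
    simp only [Z, Over.mk_hom]
    rw [← Over.w f, pullback.condition_assoc])
  haveI : CompactSpace Z.left := QuasiCompact.compactSpace_of_compactSpace (pullback.fst f.left f.left)
  have h := hx l₁ l₂ (Over.OverMorphism.ext pullback.condition)
  rw [← η_map, ← η_map] at h
  obtain ⟨k, hk⟩ := exists_pow_eq (ι := Unit) (Z := fun _ => Z.left) (p := p) (n := n)
    (a := fun _ => l₁.left.appTop.hom a) (b := fun _ => l₂.left.appTop.hom a) fun _ => η_injective Z h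
  obtain ⟨c, hc, -⟩ := exists_descend f (a ^ p ^ k) (by rw [map_pow, map_pow]; exact hk ())
  have hfc : (Q p S).map f.op (η Y (FrobColimSections.mk p (n + k) c)) =
      η X (FrobColimSections.mk p n a) := by
    rw [← η_map, FrobColimSections.map_mk, hc, ← mk_raise]
  refine ⟨_, hfc, fun y hy => ?_⟩
  obtain ⟨y₀, rfl⟩ := (η_bijective Y).2 y
  refine congrArg (η Y) ?_
  have h2 := hy.trans hfc.symm
  rw [← η_map, ← η_map] at h2
  obtain ⟨N, b, hb⟩ := exists_common (Z := fun _ : Bool => Y.left)
    (fun t => bif t then y₀ else FrobColimSections.mk p (n + k) c)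
  obtain ⟨M, hM⟩ := exists_pow_eq (ι := Unit) (Z := fun _ => X.left) (p := p) (n := N)
    (a := fun _ => f.left.appTop.hom (b true)) (b := fun _ => f.left.appTop.hom (b false)) fun _ => by
      rw [← FrobColimSections.map_mk, ← FrobColimSections.map_mk, hb, hb]
      exact η_injective X h2
  have hinj : b true ^ p ^ M = b false ^ p ^ M :=
    (exists_descend f (f.left.appTop.hom (b false ^ p ^ M)) (by
      rw [← CommRingCat.comp_apply, ← Scheme.Hom.comp_appTop, ← CommRingCat.comp_apply, ← Scheme.Hom.comp_appTop,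
        pullback.condition])).unique (by rw [map_pow, map_pow]; exact hM ()) rfl
  rw [show y₀ = _ from (hb true).symm, show FrobColimSections.mk p (n + k) c = _ from (hb false).symm,
    mk_raise N M (b true), mk_raise N M (b false), hinj]

/-- The sieve condition for test rings. -/
theorem isSheafFor_tests_colim [hp : Fact p.Prime] (hS : (p : Γ(S, ⊤)) = 0) {A : Over S} [IsAffine A.left]
    (R : Sieve A) {ι : Type} [Finite ι] (C : ι → CommRingCat.{u}) (φ : ∀ i, Γ(A.left, ⊤) ⟶ C i)
    (hR : ∀ {W : Over S} (h : W ⟶ A), R h ↔ ∃ (i : ι) (ψ : C i ⟶ Γ(W.left, ⊤)), φ i ≫ ψ = h.left.appTop)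
    (hl : Lifts C φ p) : Presieve.IsSheafFor (Q p S) R.arrows := by
  let T : ι → Over S := fun i => Over.mk ((Spec.map (φ i) ≫ A.left.isoSpec.inv) ≫ A.hom)
  let q : ∀ i, T i ⟶ A := fun i => Over.homMk (Spec.map (φ i) ≫ A.left.isoSpec.inv)
  have hq : ∀ i, R (q i) := fun i =>
    (hR _).2 ⟨i, (Scheme.ΓSpecIso _).inv, (appTop_specMap_isoSpec_inv _).symm⟩
  haveI haff : ∀ i, IsAffine (T i).left := fun i => inferInstanceAs (IsAffine (Spec (C i)))
  intro x hx
  have hsurj : ∀ i, ∃ r, η (T i) r = x (q i) (hq i) := fun i => (η_bijective (T i)).2 _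
  choose r hr using hsurj
  obtain ⟨n, a, ha⟩ := exists_common r
  let D : ι × ι → CommRingCat.{u} := fun ij => pushout (φ ij.1) (φ ij.2)
  let av : ∀ i, C i := fun i => (Scheme.ΓSpecIso (C i)).hom.hom (a i)
  have hcomp : ∀ ij : ι × ι,
      FrobColimSections.mk p n ((Spec.map (pushout.inl (φ ij.1) (φ ij.2))).appTop.hom (a ij.1)) =
        FrobColimSections.mk p n ((Spec.map (pushout.inr (φ ij.1) (φ ij.2))).appTop.hom (a ij.2)) := by
    rintro ⟨i, j⟩
    let Do : Over S := Over.mk (Spec.map (pushout.inl (φ i) (φ j)) ≫ (T i).hom)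
    let l₁ : Do ⟶ T i := Over.homMk (Spec.map (pushout.inl (φ i) (φ j)))
    let l₂ : Do ⟶ T j := Over.homMk (Spec.map (pushout.inr (φ i) (φ j))) (by
      simp only [Do, T, Over.mk_hom, Category.assoc]
      rw [← Spec.map_comp_assoc, ← Spec.map_comp_assoc, pushout.condition])
    have hl12 : l₁ ≫ q i = l₂ ≫ q j := Over.OverMorphism.ext (by
      show Spec.map _ ≫ Spec.map (φ i) ≫ _ = Spec.map _ ≫ Spec.map (φ j) ≫ _
      rw [← Spec.map_comp_assoc, ← Spec.map_comp_assoc, pushout.condition])
    haveI : IsAffine Do.left := inferInstanceAs (IsAffine (Spec _))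
    have h := hx l₁ l₂ (hq i) (hq j) hl12
    rw [← hr, ← hr, ← η_map, ← η_map, ← ha, ← ha, FrobColimSections.map_mk, FrobColimSections.map_mk] at h
    exact η_injective Do h
  obtain ⟨k, hk⟩ := exists_pow_eq hcomp
  obtain ⟨c, hc⟩ := hl.lift (fun i => av i ^ p ^ k) fun i j E α β he => by
    have ev : ∀ {l : ι} (γ : C l ⟶ D (i, j)) (y : Γ(Spec (C l), ⊤)),
        (Scheme.ΓSpecIso (D (i, j))).hom.hom ((Spec.map γ).appTop.hom y) =
          γ.hom ((Scheme.ΓSpecIso (C l)).hom.hom y) :=
      fun {l} γ y => congrArg (fun φ => φ.hom y) (Scheme.ΓSpecIso_naturality γ)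
    have e1 : α.hom (av i) = (pushout.desc α β he).hom ((Scheme.ΓSpecIso (D (i, j))).hom.hom
        ((Spec.map (pushout.inl (φ i) (φ j))).appTop.hom (a i))) :=
      ((congrArg (pushout.desc α β he).hom (ev (pushout.inl (φ i) (φ j)) (a i))).trans
        (congrArg (fun γ => γ.hom (av i)) (pushout.inl_desc α β he))).symm
    have e2 : β.hom (av j) = (pushout.desc α β he).hom ((Scheme.ΓSpecIso (D (i, j))).hom.hom
        ((Spec.map (pushout.inr (φ i) (φ j))).appTop.hom (a j))) :=
      ((congrArg (pushout.desc α β he).hom (ev (pushout.inr (φ i) (φ j)) (a j))).trans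
        (congrArg (fun γ => γ.hom (av j)) (pushout.inr_desc α β he))).symm
    have h6 := congrArg (fun t => (pushout.desc α β he).hom ((Scheme.ΓSpecIso (D (i, j))).hom.hom t)) (hk (i, j))
    simp only [map_pow] at h6
    rw [map_pow, map_pow, e1, e2]
    exact h6
  have hqc : ∀ i, FrobColimSections.map p (q i).left (FrobColimSections.mk p (n + k) c) = r i := fun i => by
    have h2 : (q i).left.appTop = φ i ≫ (Scheme.ΓSpecIso _).inv := appTop_specMap_isoSpec_inv _
    have h3 : (Scheme.ΓSpecIso (C i)).inv.hom (av i) = a i :=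
      (Scheme.ΓSpecIso (C i)).commRingCatIsoToRingEquiv.symm_apply_apply _
    rw [FrobColimSections.map_mk, h2, CommRingCat.comp_apply, hc, map_pow]
    erw [h3]
    rw [← mk_raise, ha]
  refine ⟨η A (FrobColimSections.mk p (n + k) c), fun W h hh => ?_, fun y hy => ?_⟩
  · obtain ⟨i, ψ, hψ⟩ := (hR h).1 hh
    let l : W ⟶ T i := Over.homMk (W.left.toSpecΓ ≫ Spec.map ψ) (by
      have e : (W.left.toSpecΓ ≫ Spec.map ψ) ≫ Spec.map (φ i) ≫ A.left.isoSpec.inv = h.left := by
        refine ext_of_isAffine ?_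
        rw [Scheme.Hom.comp_appTop, appTop_specMap_isoSpec_inv, appTop_toSpecΓ_specMap, Category.assoc,
          Iso.inv_hom_id_assoc, hψ]
      simp only [T, Over.mk_hom]
      rw [← Category.assoc, e]
      exact Over.w h)
    have hlq : l ≫ q i = h := Over.OverMorphism.ext (by
      refine ext_of_isAffine ?_
      show ((W.left.toSpecΓ ≫ Spec.map ψ) ≫ Spec.map (φ i) ≫ A.left.isoSpec.inv).appTop = _
      rw [Scheme.Hom.comp_appTop, appTop_specMap_isoSpec_inv, appTop_toSpecΓ_specMap, Category.assoc,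
        Iso.inv_hom_id_assoc, hψ])
    have h' := hx (𝟙 W) l hh (hq i) (by rw [Category.id_comp, hlq])
    rw [op_id, Functor.map_id_apply, ← hr, ← η_map, ← hqc] at h'
    rw [h', ← η_map, ← FrobColimSections.map_comp', ← Over.comp_left, hlq]
  · obtain ⟨y₀, rfl⟩ := (η_bijective A).2 y
    refine congrArg (η A) ?_
    have h2 : ∀ i, FrobColimSections.map p (q i).left y₀ =
        FrobColimSections.map p (q i).left (FrobColimSections.mk p (n + k) c) := fun i => by
      have h3 := hy (q i) (hq i)
      rw [← hr, ← η_map] at h3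
      rw [hqc]
      exact η_injective (T i) h3
    obtain ⟨N, b, hb⟩ := exists_common (Z := fun _ : Bool => A.left)
      (fun t => bif t then y₀ else FrobColimSections.mk p (n + k) c)
    obtain ⟨M, hM⟩ := exists_pow_eq (Z := fun i => (T i).left) (p := p) (n := N)
      (a := fun i => (q i).left.appTop.hom (b true)) (b := fun i => (q i).left.appTop.hom (b false)) fun i => by
        rw [← FrobColimSections.map_mk, ← FrobColimSections.map_mk, hb, hb]
        exact h2 i
    obtain ⟨N', hN'⟩ := hl.ker
    have hinj : (b true ^ p ^ M) ^ p ^ N' = (b false ^ p ^ M) ^ p ^ N' := by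
      have e := frob_add_pow hp.out (GrothLib.HFrob4.natCast_eq_zero hS A) N' (b false ^ p ^ M)
        (b true ^ p ^ M - b false ^ p ^ M)
      have hz : (b true ^ p ^ M - b false ^ p ^ M) ^ p ^ N' = 0 := hN' _ fun i => by
        have h4 : (q i).left.appTop = φ i ≫ (Scheme.ΓSpecIso _).inv := appTop_specMap_isoSpec_inv _
        have h5 := hM i
        simp only [← map_pow, h4, CommRingCat.comp_apply] at h5
        rw [map_sub, (Scheme.ΓSpecIso (C i)).commRingCatIsoToRingEquiv.symm.injective h5, sub_self]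
      rw [hz, add_zero, add_sub_cancel] at e
      exact e
    rw [show y₀ = _ from (hb true).symm, show FrobColimSections.mk p (n + k) c = _ from (hb false).symm,
      mk_raise N (M + N') (b true), mk_raise N (M + N') (b false), pow_add, pow_mul, hinj, ← pow_mul]

theorem isSheaf_Jh_Q [Fact p.Prime] (hS : (p : Γ(S, ⊤)) = 0) : Presieve.IsSheaf (HTop.Jh S) (Q p S) :=
  GrothLib.HFrob4.isSheaf_Jh Q_isSheaf flatCond_Q (absCond Q_isSheaf
    (fun A hA f g => isSheafFor_tests_colim hS _ (threeRing f g) (threeMap f g)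
      (fun h => (Sieve.overEquiv_symm_iff _ _).trans (threeRing_iff f g h.left.appTop)) (threeLifts f g p))
    (fun A hA g I N hI => isSheafFor_tests_colim hS _ (twoRing g I) (twoMap g I)
      (fun h => (Sieve.overEquiv_symm_iff _ _).trans (twoRing_iff g I h.left.appTop)) (twoLifts g I p hI)))

end GrothLib.HFrobColim4
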