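import Groth.Agent.Lib.HFrobColim4.Basic
import Groth.Prelude.Def_QuotSh
import Mathlib

/-!
# The Zariski sheafification of sections up to `p`-th powers
-/

set_option autoImplicit false
set_option backward.isDefEq.respectTransparency false
universe u

open CategoryTheory CategoryTheory.Limits AlgebraicGeometry Opposite

noncomputable section

namespace GrothLib.HFrobColim4

open HTop

variable (p : ℕ) (S : Scheme.{u})

/-- The presheaf. -/
abbrev P : (Over S)ᵒᵖ ⥤ Type (u + 1) := frobColimPresheaf p S ⋙ uliftFunctor.{u + 1, u}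

/-- Its sheafification. -/
abbrev Q : (Over S)ᵒᵖ ⥤ Type (u + 1) := (QuotSh.J Scheme.zariskiPrecoverage S).sheafify (P p S)

variable {p S}

theorem Q_isSheaf : Presieve.IsSheaf (Scheme.zariskiTopology.over S) (Q p S) :=
  (isSheaf_iff_isSheaf_of_type _ _).1
    (GrothendieckTopology.sheafify_isSheaf (QuotSh.J Scheme.zariskiPrecoverage S) (P p S))

/-- The unit on a class. -/
def η (X : Over S) (x : FrobColimSections p X.left) : (Q p S).obj (op X) :=
  ((QuotSh.J Scheme.zariskiPrecoverage S).toSheafify (P p S)).app (op X) (ULift.up x : ULift.{u + 1} (FrobColimSections p X.left))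

theorem η_map {X Y : Over S} (g : X ⟶ Y) (x : FrobColimSections p Y.left) :
    η X (FrobColimSections.map p g.left x) = (Q p S).map g.op (η Y x) := by
  have := NatTrans.naturality_apply ((QuotSh.J Scheme.zariskiPrecoverage S).toSheafify (P p S)) g.op (ULift.up x : ULift.{u + 1} (FrobColimSections p Y.left))
  exact this

/-- A member of a cover over the base. -/
abbrev piece {X : Over S} (𝒰 : Scheme.OpenCover.{u} X.left) (i : 𝒰.I₀) : Over S := Over.mk (𝒰.f i ≫ X.hom)

/-- Its inclusion. -/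
abbrev pieceMap {X : Over S} (𝒰 : Scheme.OpenCover.{u} X.left) (i : 𝒰.I₀) : piece 𝒰 i ⟶ X :=
  Over.homMk (𝒰.f i)

theorem Q_ext {X : Over S} (𝒰 : Scheme.OpenCover.{u} X.left) {x y : (Q p S).obj (op X)}
    (h : ∀ i, (Q p S).map (pieceMap 𝒰 i).op x = (Q p S).map (pieceMap 𝒰 i).op y) : x = y := by
  have hm : (Sieve.overEquiv X).symm (Sieve.generate (Presieve.ofArrows 𝒰.X 𝒰.f)) ∈
      Scheme.zariskiTopology.over S X := by
    refine (GrothendieckTopology.mem_over_iff _ _).2 ?_
    convert 𝒰.mem_grothendieckTopology using 1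
    exact (Sieve.overEquiv X).apply_symm_apply _
  refine (Q_isSheaf.isSeparated _ hm).ext fun W g hg => ?_
  rw [Sieve.overEquiv_symm_iff] at hg
  obtain ⟨_, l, _, ⟨i⟩, hl⟩ := hg
  have e : g = (Over.homMk (V := piece 𝒰 i) l (by show l ≫ 𝒰.f i ≫ X.hom = W.hom; rw [← Category.assoc, hl]; exact Over.w g) ≫ pieceMap 𝒰 i : W ⟶ X) :=
    Over.OverMorphism.ext hl.symm
  rw [e, op_comp, Functor.map_comp_apply, Functor.map_comp_apply, h i]

theorem exists_cover_of_mem {X : Over S} [CompactSpace X.left] {T : Sieve X}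
    (hT : T ∈ QuotSh.J Scheme.zariskiPrecoverage S X) :
    ∃ 𝒰 : Scheme.OpenCover.{u} X.left, Finite 𝒰.I₀ ∧ ∀ i, IsAffine (𝒰.X i) ∧ T (pieceMap 𝒰 i) := by
  obtain ⟨𝒰, hf, h⟩ := exists_finite_affine_cover ((GrothendieckTopology.mem_over_iff _ _).1 hT :
    Sieve.overEquiv X T ∈ Scheme.zariskiTopology X.left)
  exact ⟨𝒰, hf, fun i => ⟨(h i).1, (Sieve.overEquiv_iff T _).1 (h i).2⟩⟩

/-- The unit is injective on quasi-compact schemes. -/
theorem η_injective (X : Over S) [CompactSpace X.left] : Function.Injective (η (p := p) X) := by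
  intro x y hxy
  obtain ⟨𝒰, hf, h⟩ := exists_cover_of_mem (Presheaf.equalizerSieve_mem (QuotSh.J Scheme.zariskiPrecoverage S)
    ((QuotSh.J Scheme.zariskiPrecoverage S).toSheafify (P p S)) (X := op X) (ULift.up x : ULift.{u + 1} (FrobColimSections p X.left)) (ULift.up y : ULift.{u + 1} (FrobColimSections p X.left)) hxy)
  exact colim_eq_of_cover 𝒰 fun i => congrArg ULift.down (h i).2

/-- The unit is bijective on quasi-compact quasi-separated schemes. -/
theorem η_bijective (X : Over S) [CompactSpace X.left] [QuasiSeparatedSpace X.left] :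
    Function.Bijective (η (p := p) X) := by
  refine ⟨η_injective X, fun σ => ?_⟩
  obtain ⟨𝒰, hf, h⟩ := exists_cover_of_mem (Presheaf.imageSieve_mem (QuotSh.J Scheme.zariskiPrecoverage S)
    ((QuotSh.J Scheme.zariskiPrecoverage S).toSheafify (P p S)) (U := op X) σ)
  choose t ht using fun i => (h i).2
  have ht' : ∀ i, η (piece 𝒰 i) (t i).down = (Q p S).map (pieceMap 𝒰 i).op σ := ht
  have hqc : ∀ i, CompactSpace (𝒰.X i) := fun i => by haveI := (h i).1; infer_instance
  obtain ⟨s, hs⟩ := colim_exists_glue 𝒰 (fun i => (t i).down) fun i j => by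
    haveI := (h i).1
    haveI := (h j).1
    let Z : Over S := Over.mk ((pullback.fst (𝒰.f i) (𝒰.f j) ≫ 𝒰.f i) ≫ X.hom)
    haveI : QuasiCompact (𝒰.f j) := inferInstance
    haveI : CompactSpace Z.left := QuasiCompact.compactSpace_of_compactSpace (pullback.fst (𝒰.f i) (𝒰.f j))
    let l₁ : Z ⟶ piece 𝒰 i := Over.homMk (pullback.fst (𝒰.f i) (𝒰.f j)) (by simp [Z])
    let l₂ : Z ⟶ piece 𝒰 j := Over.homMk (pullback.snd (𝒰.f i) (𝒰.f j)) (by simp [Z, pullback.condition_assoc])
    have hl : l₁ ≫ pieceMap 𝒰 i = l₂ ≫ pieceMap 𝒰 j := Over.OverMorphism.ext pullback.condition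
    refine η_injective Z ?_
    show η Z (FrobColimSections.map p l₁.left _) = η Z (FrobColimSections.map p l₂.left _)
    rw [η_map, η_map, ht', ht', ← Functor.map_comp_apply, ← Functor.map_comp_apply, ← op_comp, ← op_comp, hl]
  refine ⟨s, Q_ext 𝒰 fun i => ?_⟩
  rw [← η_map, ← ht' i]
  exact congrArg _ (hs i)

theorem toSheafify_bijective (X : Over S) [CompactSpace X.left] [QuasiSeparatedSpace X.left] :
    Function.Bijective
      (((QuotSh.J Scheme.zariskiPrecoverage S).toSheafify (P p S)).app (op X)) := by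
  have h := η_bijective (p := p) X
  exact ⟨fun a b hab => ULift.ext _ _ (h.1 hab), fun σ => (h.2 σ).elim fun x hx => ⟨⟨x⟩, hx⟩⟩

end GrothLib.HFrobColim4
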